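import Cfsg.Agent.MinSimple.MinParabolic
import Cfsg.Agent.Lib.SylowNormalInf
import Cfsg.Agent.Omega.NoFF.Basic
import Cfsg.Agent.Mrg.Omega.NO3S.EMany.LowExt
import Cfsg.Agent.Mrg.Omega.KL.Star.Fam
import Cfsg.Agent.Mrg.Omega.KL.Star.ViaRed

-- merged: Cfsg.Agent.Omega.NOThreeL.RZ.TwoC.LemT
section

/-!
# LEMMA T1 (helper162, bb #24923)

`H` acts on the elementary abelian 2-group `M`, `T` is a Sylow 2-subgroup of `H`, `H₁` is normal in `H` with `H = H₁ T`
(i.e. `O²(H) ≤ H₁`), `T₁ = T ∩ H₁`.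

* `tr` : the trace `v ↦ ∏ {x v : x T₁ ⊆ P₁}` from `C_M(T₁)` to `C_M(P₁)`;
* `fix_of_trace` : if all `T`-fixed vectors are fixed by `P₁`, `|P₁ : T₁|` is odd and `T` normalises `P₁` and `T₁`, then `P₁`
  centralises each `T`-invariant subgroup of `C_M(T₁)`;
* **`lemT`** : if every minimal parabolic `P` over `T` which moves a `T`-fixed vector normalises `T₁`, then `T₁` centralises
  `⟨C_M(T)^H⟩`;
* **`lemT_sub`** : the form inside a group: `M, H ≤ G`, `H ≤ N_G(M)`.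
-/

set_option autoImplicit false
set_option linter.unusedSectionVars false

namespace Cfsg.Agent.Omega.NOThreeL.RZ.TwoC.LemT

open Subgroup Cfsg
open Cfsg.Agent.MinSimple.MinParabolic (IsMinPar)

/-! ### The trace -/

section Trace

variable {H : Type*} [Group H] [Finite H] {M : Type*} [CommGroup M] [MulDistribMulAction H M]

/-- the cosets `x T₁` in `P₁` -/
noncomputable def cosets (P₁ T₁ : Subgroup H) : Finset (H ⧸ T₁) :=
  letI := Fintype.ofFinite (H ⧸ T₁)
  letI := Classical.decPred fun c : H ⧸ T₁ => c.out ∈ P₁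
  Finset.univ.filter fun c => c.out ∈ P₁

variable {P₁ T₁ T : Subgroup H}

theorem mem_cosets {c : H ⧸ T₁} : c ∈ cosets P₁ T₁ ↔ c.out ∈ P₁ := by
  classical
  simp [cosets]

theorem mk_mem_cosets (hle : T₁ ≤ P₁) {x : H} : (x : H ⧸ T₁) ∈ cosets P₁ T₁ ↔ x ∈ P₁ := by
  rw [mem_cosets]
  obtain ⟨t, ht⟩ := QuotientGroup.mk_out_eq_mul T₁ x
  rw [ht]
  exact Subgroup.mul_mem_cancel_right _ (hle t.2)

/-- the number of these cosets -/
theorem card_cosets (hle : T₁ ≤ P₁) : (cosets P₁ T₁).card = T₁.relIndex P₁ := by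
  classical
  let f : (P₁ ⧸ T₁.subgroupOf P₁) → H ⧸ T₁ := Quotient.lift (fun x : P₁ => ((x : H) : H ⧸ T₁)) (by
    intro a b hab
    exact QuotientGroup.eq.2 (mem_subgroupOf.1 (QuotientGroup.leftRel_apply.1 hab)))
  have hf : ∀ x : P₁, f (x : P₁ ⧸ T₁.subgroupOf P₁) = ((x : H) : H ⧸ T₁) := fun _ => rfl
  have hinj : Function.Injective f := by
    intro a b
    induction a using QuotientGroup.induction_on
    induction b using QuotientGroup.induction_on
    rw [hf, hf]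
    intro h
    exact QuotientGroup.eq.2 (mem_subgroupOf.2 (QuotientGroup.eq.1 h))
  have himg : ((cosets P₁ T₁ : Finset (H ⧸ T₁)) : Set (H ⧸ T₁)) = Set.range f := by
    ext c
    rw [Finset.mem_coe, mem_cosets]
    constructor
    · intro h
      exact ⟨((⟨c.out, h⟩ : P₁) : P₁ ⧸ T₁.subgroupOf P₁), (hf _).trans (QuotientGroup.out_eq' c)⟩
    · rintro ⟨a, rfl⟩
      induction a using QuotientGroup.induction_on with
      | H x =>
        rw [hf, ← mem_cosets, mk_mem_cosets hle]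
        exact x.2
  rw [Subgroup.relIndex, Subgroup.index_eq_card, ← Nat.card_range_of_injective hinj, ← himg]
  simp

/-- the trace -/
noncomputable def tr (P₁ T₁ : Subgroup H) (v : M) : M := ∏ c ∈ cosets P₁ T₁, c.out • v

theorem tr_mul (v w : M) : tr P₁ T₁ (v * w) = tr P₁ T₁ v * tr P₁ T₁ w := by
  simp [tr, smul_mul', Finset.prod_mul_distrib]

theorem out_smul {v : M} (hv : ∀ t ∈ T₁, t • v = v) (x : H) : ((x : H ⧸ T₁)).out • v = x • v := by
  obtain ⟨t, ht⟩ := QuotientGroup.mk_out_eq_mul T₁ x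
  rw [ht, mul_smul, hv t t.2]

/-- the trace is fixed by `P₁` -/
theorem smul_tr (hle : T₁ ≤ P₁) {v : M} (hv : ∀ t ∈ T₁, t • v = v) {p : H} (hp : p ∈ P₁) :
    p • tr P₁ T₁ v = tr P₁ T₁ v := by
  rw [tr, Finset.smul_prod']
  refine Finset.prod_bij' (fun c _ => p • c) (fun c _ => p⁻¹ • c) ?_ ?_ ?_ ?_ ?_
  · intro c hc
    rw [← QuotientGroup.out_eq' c, MulAction.Quotient.smul_coe, smul_eq_mul, mk_mem_cosets hle]
    exact mul_mem hp (mem_cosets.1 hc)
  · intro c hc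
    rw [← QuotientGroup.out_eq' c, MulAction.Quotient.smul_coe, smul_eq_mul, mk_mem_cosets hle]
    exact mul_mem (inv_mem hp) (mem_cosets.1 hc)
  · intro c _
    exact inv_smul_smul p c
  · intro c _
    exact smul_inv_smul p c
  · intro c _
    conv_rhs => rw [← QuotientGroup.out_eq' c, MulAction.Quotient.smul_coe, smul_eq_mul, out_smul hv, mul_smul]

/-- the trace of a fixed vector -/
theorem tr_of_fix (sq : ∀ m : M, m * m = 1) (hodd : Odd (cosets P₁ T₁).card) {v : M}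
    (hv : ∀ p ∈ P₁, p • v = v) : tr P₁ T₁ v = v := by
  rw [tr, Finset.prod_congr rfl (fun c hc => hv _ (mem_cosets.1 hc)), Finset.prod_const]
  obtain ⟨k, hk⟩ := hodd
  rw [hk, pow_add, pow_mul, pow_one, pow_two, sq, one_pow, one_mul]

/-- the trace commutes with `T` -/
theorem tr_smul (hle : T₁ ≤ P₁) {t : H} (h1 : ∀ x ∈ P₁, t * x * t⁻¹ ∈ P₁) (h1' : ∀ x ∈ P₁, t⁻¹ * x * t ∈ P₁)
    (h2 : ∀ x ∈ T₁, t * x * t⁻¹ ∈ T₁) (h2' : ∀ x ∈ T₁, t⁻¹ * x * t ∈ T₁)
    {v : M} (hv : ∀ x ∈ T₁, x • v = v) : tr P₁ T₁ (t • v) = t • tr P₁ T₁ v := by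
  have hv' : ∀ x ∈ T₁, x • t • v = t • v := by
    intro x hx
    have := hv _ (h2' x hx)
    rw [mul_smul, mul_smul, inv_smul_eq_iff] at this
    exact this
  rw [tr, tr, Finset.smul_prod']
  refine Finset.prod_bij' (fun c _ => ((t⁻¹ * c.out * t : H) : H ⧸ T₁)) (fun c _ => ((t * c.out * t⁻¹ : H) : H ⧸ T₁))
    ?_ ?_ ?_ ?_ ?_
  · intro c hc
    rw [mk_mem_cosets hle]
    exact h1' _ (mem_cosets.1 hc)
  · intro c hc
    rw [mk_mem_cosets hle]
    exact h1 _ (mem_cosets.1 hc)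
  · intro c _
    obtain ⟨x, hx⟩ := QuotientGroup.mk_out_eq_mul T₁ (t⁻¹ * c.out * t)
    rw [hx]
    conv_rhs => rw [← QuotientGroup.out_eq' c]
    refine QuotientGroup.eq.2 ?_
    have := h2 _ (inv_mem x.2)
    have e : (t * (t⁻¹ * c.out * t * (x : H)) * t⁻¹)⁻¹ * c.out = t * (x : H)⁻¹ * t⁻¹ := by group
    rw [e]
    exact this
  · intro c _
    obtain ⟨x, hx⟩ := QuotientGroup.mk_out_eq_mul T₁ (t * c.out * t⁻¹)
    rw [hx]
    conv_rhs => rw [← QuotientGroup.out_eq' c]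
    refine QuotientGroup.eq.2 ?_
    have := h2' _ (inv_mem x.2)
    have e : (t⁻¹ * (t * c.out * t⁻¹ * (x : H)) * t)⁻¹ * c.out = t⁻¹ * (x : H)⁻¹ * t := by group
    rw [e]
    exact this
  · intro c _
    rw [out_smul hv, mul_smul, mul_smul, smul_inv_smul]

end Trace

/-! ### The step -/

section Step

variable {H : Type*} [Group H] [Finite H] {M : Type*} [Group M] [Finite M] [MulDistribMulAction H M]

/-- a 2-group has fixed points on invariant subgroups of `M` -/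
theorem exists_fixed (sq : ∀ m : M, m * m = 1) {B : Subgroup H} (hB : IsPGroup 2 B) {W : Subgroup M}
    (hW : W ≠ ⊥) (hWB : ∀ b ∈ B, ∀ x ∈ W, b • x ∈ W) : ∃ w ∈ W, w ≠ 1 ∧ ∀ b ∈ B, b • w = w := by
  let _ : MulAction B W :=
    { smul := fun b x => ⟨(b : H) • (x : M), hWB b b.2 x x.2⟩
      one_smul := fun x => Subtype.ext (one_smul H (x : M))
      mul_smul := fun b c x => Subtype.ext (mul_smul (b : H) (c : H) (x : M)) }
  have hcard : 2 ∣ Nat.card W := by
    have h1 : IsPGroup 2 W := fun x => ⟨1, by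
      rw [pow_one, pow_two]
      exact Subtype.ext (sq x)⟩
    have : Nontrivial W := (Subgroup.nontrivial_iff_ne_bot _).2 hW
    obtain ⟨k, hk⟩ := IsPGroup.iff_card.1 h1
    rw [hk]
    refine dvd_pow_self 2 ?_
    rintro rfl
    have h2 : 1 < Nat.card W := Finite.one_lt_card
    rw [hk, pow_zero] at h2
    omega
  have : Fact (Nat.Prime 2) := ⟨Nat.prime_two⟩
  obtain ⟨b, hb1, hb2⟩ := hB.exists_fixed_point_of_prime_dvd_card_of_fixed_point (α := W) hcard (a := 1)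
    (fun b => Subtype.ext (smul_one (b : H)))
  exact ⟨b, b.2, fun h => hb2 (Subtype.ext h.symm), fun c hc => congrArg Subtype.val (hb1 ⟨c, hc⟩)⟩

/-- **The step.** -/
theorem fix_of_trace (sq : ∀ m : M, m * m = 1) {T T₁ P₁ : Subgroup H} (hT : IsPGroup 2 T) (hle : T₁ ≤ P₁)
    (hodd : ¬ 2 ∣ T₁.relIndex P₁) (hP : T ≤ normalizer (P₁ : Set H)) (h1 : T ≤ normalizer (T₁ : Set H))
    (hfix : ∀ z : M, (∀ t ∈ T, t • z = z) → ∀ p ∈ P₁, p • z = z) {L : Subgroup M}
    (hL : ∀ t ∈ T, ∀ v ∈ L, t • v ∈ L) (hL1 : ∀ t ∈ T₁, ∀ v ∈ L, t • v = v) :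
    ∀ p ∈ P₁, ∀ v ∈ L, p • v = v := by
  have hcomm : ∀ a b : M, a * b = b * a := fun a b => by
    have h3 : ∀ m : M, m⁻¹ = m := fun m => inv_eq_of_mul_eq_one_left (sq m)
    calc a * b = (a * b)⁻¹ := (h3 _).symm
      _ = b⁻¹ * a⁻¹ := mul_inv_rev a b
      _ = b * a := by rw [h3, h3]
  let cg : CommGroup M := { ‹Group M› with mul_comm := hcomm }
  have hodd' : Odd (cosets P₁ T₁).card := by
    rw [card_cosets hle]
    exact Nat.odd_iff.2 (by omega)
  let θ : M →* M :=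
    { toFun := fun v => v * tr P₁ T₁ v
      map_one' := by
        have : tr P₁ T₁ (1 : M) = 1 := by simp [tr]
        rw [this, one_mul]
      map_mul' := fun v w => by
        rw [tr_mul]
        exact mul_mul_mul_comm _ _ _ _ }
  have hθ : ∀ v : M, θ v = v * tr P₁ T₁ v := fun _ => rfl
  have hv1 : ∀ v ∈ L, ∀ t ∈ T₁, t • v = v := fun v hv t ht => hL1 t ht v hv
  have key : ∀ v ∈ L, θ v = 1 := by
    by_contra hc
    push Not at hc
    obtain ⟨v₀, hv₀, hv₀1⟩ := hc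
    have hne : L.map θ ≠ ⊥ := fun h => hv₀1 (by
      have : θ v₀ ∈ L.map θ := mem_map_of_mem θ hv₀
      rwa [h, mem_bot] at this)
    have hinv : ∀ t ∈ T, ∀ x ∈ L.map θ, t • x ∈ L.map θ := by
      rintro t ht _ ⟨v, hv, rfl⟩
      refine ⟨t • v, hL t ht v hv, ?_⟩
      have hn := mem_normalizer_iff.1 (hP ht)
      have hn' := mem_normalizer_iff.1 (hP (inv_mem ht))
      have hm := mem_normalizer_iff.1 (h1 ht)
      have hm' := mem_normalizer_iff.1 (h1 (inv_mem ht))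
      rw [inv_inv] at hn' hm'
      rw [hθ, hθ, smul_mul', tr_smul hle (fun x hx => (hn x).1 hx) (fun x hx => (hn' x).1 hx)
        (fun x hx => (hm x).1 hx) (fun x hx => (hm' x).1 hx) (hv1 v hv)]
    obtain ⟨w, ⟨v, hv, rfl⟩, hw1, hwT⟩ := exists_fixed sq hT hne hinv
    have h2 : tr P₁ T₁ (θ v) = θ v := tr_of_fix sq hodd' (hfix _ hwT)
    have h3 : tr P₁ T₁ (tr P₁ T₁ v) = tr P₁ T₁ v :=
      tr_of_fix sq hodd' (fun p hp => smul_tr hle (hv1 v hv) hp)
    have h4 : tr P₁ T₁ (θ v) = 1 := by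
      rw [hθ, tr_mul, h3]
      exact sq _
    exact hw1 (h2.symm.trans h4)
  intro p hp v hv
  have h5 : v = tr P₁ T₁ v := by
    have := key v hv
    rw [hθ] at this
    have h6 : v⁻¹ = tr P₁ T₁ v := inv_eq_of_mul_eq_one_right this
    rw [← h6]
    exact (inv_eq_of_mul_eq_one_left (sq v)).symm
  rw [h5]
  exact smul_tr hle (hv1 v hv) hp

/-- `[N H : H] = [N : H ∩ N]` for `H ≤ N(N)` -/
theorem relIndex_sup_of_le {A N : Subgroup H} (h : A ≤ normalizer (N : Set H)) :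
    A.relIndex (A ⊔ N) = A.relIndex N := by
  have h1 : (N.subgroupOf (A ⊔ N)).Normal :=
    (Subgroup.normal_subgroupOf_iff_le_normalizer le_sup_right).2 (sup_le h le_normalizer)
  have h2 := Cfsg.Agent.Lib.SylowNormalInf.relIndex_sup_of_normal (A.subgroupOf (A ⊔ N)) (N.subgroupOf (A ⊔ N))
  rw [← Subgroup.subgroupOf_sup le_sup_left le_sup_right, Subgroup.relIndex_subgroupOf le_rfl,
    Subgroup.relIndex_subgroupOf le_sup_right] at h2
  exact h2

/-- **LEMMA T1.** -/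
theorem lemT (sq : ∀ m : M, m * m = 1) {T H₁ : Subgroup H} (hn : H₁.Normal) (hT : IsPGroup 2 T) (hTi : ¬ 2 ∣ T.index)
    (hsup : H₁ ⊔ T = ⊤)
    (hpar : ∀ P : Subgroup H, IsMinPar T P → (∃ z : M, (∀ t ∈ T, t • z = z) ∧ ∃ p ∈ P, p • z ≠ z) →
      P ≤ normalizer ((T ⊓ H₁ : Subgroup H) : Set H)) :
    ∀ z : M, (∀ t ∈ T, t • z = z) → ∀ h t : H, t ∈ T → t ∈ H₁ → t • h • z = h • z := by
  set T₁ : Subgroup H := T ⊓ H₁ with hT₁
  set N : Subgroup H := normalizer (T₁ : Set H) with hN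
  have hTN : normalizer (T : Set H) ≤ N := by
    intro x hx
    rw [mem_normalizer_iff] at hx ⊢
    intro y
    have h3 : y ∈ H₁ ↔ x * y * x⁻¹ ∈ H₁ := by
      constructor
      · intro hy
        exact hn.conj_mem y hy x
      · intro hy
        have := hn.conj_mem _ hy x⁻¹
        have e : x⁻¹ * (x * y * x⁻¹) * x⁻¹⁻¹ = y := by group
        rwa [e] at this
    rw [hT₁, mem_inf, mem_inf, ← hx y, ← h3]
  let Λ : Subgroup M := closure {m | ∃ n ∈ N, ∃ z : M, (∀ t ∈ T, t • z = z) ∧ m = n • z}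
  have hΛN : ∀ n ∈ N, ∀ v ∈ Λ, n • v ∈ Λ := by
    intro n hnN
    have h1 : Λ ≤ Λ.comap (MulDistribMulAction.toMonoidHom M n) := by
      refine (closure_le _).2 ?_
      rintro _ ⟨k, hk, z, hz, rfl⟩
      refine subset_closure ⟨n * k, mul_mem hnN hk, z, hz, ?_⟩
      exact (mul_smul _ _ _).symm
    exact fun v hv => h1 hv
  have hT1 : T ≤ N := le_normalizer.trans hTN
  have hΛT : ∀ t ∈ T₁, ∀ v ∈ Λ, t • v = v := by
    intro t ht
    have h1 : Λ ≤ (MonoidHom.eqLocus (MulDistribMulAction.toMonoidHom M t) (MonoidHom.id M)) := by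
      refine (closure_le _).2 ?_
      rintro _ ⟨k, hk, z, hz, rfl⟩
      change t • k • z = k • z
      have h2 : k⁻¹ * t * k ∈ T₁ := by
        have := (mem_normalizer_iff.1 (inv_mem hk) t).1 ht
        rwa [inv_inv] at this
      have h3 := hz _ h2.1
      rwa [mul_smul, mul_smul, inv_smul_eq_iff] at h3
    exact fun v hv => h1 hv
  let Y : Subgroup H :=
    { carrier := {h | (∀ v ∈ Λ, h • v ∈ Λ) ∧ ∀ v ∈ Λ, h⁻¹ • v ∈ Λ}
      one_mem' := ⟨fun v hv => by rwa [one_smul], fun v hv => by rwa [inv_one, one_smul]⟩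
      mul_mem' := fun {a b} ha hb => ⟨fun v hv => by
          rw [mul_smul]
          exact ha.1 _ (hb.1 v hv), fun v hv => by
          rw [mul_inv_rev, mul_smul]
          exact hb.2 _ (ha.2 v hv)⟩
      inv_mem' := fun {a} ha => ⟨ha.2, fun v hv => by
          rw [inv_inv]
          exact ha.1 v hv⟩ }
  have hNY : N ≤ Y := fun n hn => ⟨hΛN n hn, hΛN _ (inv_mem hn)⟩
  have hY : (⊤ : Subgroup H) ≤ Y := by
    refine Cfsg.Agent.MinSimple.MinParabolic.le_of_forall (S := T) le_top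
      (inf_le_right.trans (hTN.trans hNY)) fun P hP _ => ?_
    by_cases hPm : ∃ z : M, (∀ t ∈ T, t • z = z) ∧ ∃ p ∈ P, p • z ≠ z
    · exact (hpar P hP hPm).trans hNY
    push Not at hPm
    have hdec : ∀ p ∈ P, ∃ h ∈ P ⊓ H₁, ∃ t ∈ T, p = h * t := by
      intro p hp
      have h1 : p ∈ H₁ ⊔ T := hsup ▸ mem_top p
      obtain ⟨h, hh, t, ht, rfl⟩ := Subgroup.mem_sup_of_normal_left.1 h1
      refine ⟨h, ⟨?_, hh⟩, t, ht, rfl⟩
      have := mul_mem hp (inv_mem (hP.le ht))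
      rwa [mul_inv_cancel_right] at this
    have hTP : T ≤ normalizer ((P ⊓ H₁ : Subgroup H) : Set H) := by
      intro t ht
      have h1 : T ≤ normalizer (P : Set H) := hP.le.trans le_normalizer
      have h2 := mem_normalizer_iff.1 (h1 ht)
      rw [mem_normalizer_iff]
      intro y
      have h3 : y ∈ H₁ ↔ t * y * t⁻¹ ∈ H₁ := by
        constructor
        · intro hy
          exact hn.conj_mem y hy t
        · intro hy
          have := hn.conj_mem _ hy t⁻¹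
          have e : t⁻¹ * (t * y * t⁻¹) * t⁻¹⁻¹ = y := by group
          rwa [e] at this
      rw [mem_inf, mem_inf, ← h3, ← h2 y]
    have hle : T₁ ≤ P ⊓ H₁ := le_inf (inf_le_left.trans hP.le) inf_le_right
    have hodd : ¬ 2 ∣ T₁.relIndex (P ⊓ H₁) := by
      have e1 : T₁.relIndex (P ⊓ H₁) = T.relIndex (P ⊓ H₁) := by
        rw [← Subgroup.inf_relIndex_right T₁, ← Subgroup.inf_relIndex_right T]
        congr 1
        apply le_antisymm
        · exact inf_le_inf_right _ inf_le_left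
        · exact le_inf (le_inf inf_le_left (inf_le_right.trans inf_le_right)) inf_le_right
      rw [e1, ← relIndex_sup_of_le hTP]
      exact fun hd => hTi (hd.trans (Subgroup.relIndex_dvd_index_of_le le_sup_left))
    have hfix := fix_of_trace sq hT hle hodd hTP hT1 (fun z hz p hp => hPm z hz p hp.1)
      (fun t ht v hv => hΛN t (hT1 ht) v hv) hΛT
    have hPΛ : ∀ p ∈ P, ∀ v ∈ Λ, p • v ∈ Λ := by
      intro p hp v hv
      obtain ⟨h, hh, t, ht, rfl⟩ := hdec p hp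
      rw [mul_smul, hfix h hh _ (hΛN t (hT1 ht) v hv)]
      exact hΛN t (hT1 ht) v hv
    exact fun p hp => ⟨hPΛ p hp, hPΛ _ (inv_mem hp)⟩
  intro z hz h t ht ht'
  refine hΛT t ⟨ht, ht'⟩ _ ((hY (mem_top h)).1 _ (subset_closure ⟨1, one_mem _, z, hz, (one_smul _ _).symm⟩))

end Step

/-! ### Inside a group -/

section Sub

variable {G : Type*} [Group G]

theorem conj_mem_of_le {A B : Subgroup G} (h : A ≤ normalizer (B : Set G)) {a b : G} (ha : a ∈ A) (hb : b ∈ B) :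
    a * b * a⁻¹ ∈ B := (mem_normalizer_iff.1 (h ha) b).1 hb

theorem le_normalizer_of [Finite G] {A B : Subgroup G} (h : ∀ a ∈ A, ∀ b ∈ B, a * b * a⁻¹ ∈ B) :
    A ≤ normalizer (B : Set G) := by
  intro a ha
  rw [mem_normalizer_iff]
  intro b
  refine ⟨fun hb => h a ha b hb, fun hb => ?_⟩
  have := h _ (inv_mem ha) _ hb
  have e : a⁻¹ * (a * b * a⁻¹) * a⁻¹⁻¹ = b := by group
  rwa [e] at this

theorem minPar_map_subtype [Finite G] {R T : Subgroup G} (hTR : T ≤ R) {P : Subgroup R}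
    (h : IsMinPar (T.subgroupOf R) P) : IsMinPar T (P.map R.subtype) := by
  have hT : (T.subgroupOf R).map R.subtype = T := by rw [subgroupOf_map_subtype, inf_eq_left.2 hTR]
  refine ⟨?_, ?_, ?_⟩
  · rw [← hT]
    exact map_mono h.le
  · intro hP
    refine h.not_le (le_normalizer_of fun p hp x hx => ?_)
    rw [mem_subgroupOf] at hx ⊢
    exact conj_mem_of_le hP ⟨p, hp, rfl⟩ hx
  · obtain ⟨M, hM, hM2⟩ := h.exists_max
    refine ⟨M.map R.subtype, (map_lt_map_iff_of_injective R.subtype_injective).2 hM, fun K hTK hK => ?_⟩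
    have hKR : K ≤ R := hK.le.trans (map_subtype_le P)
    have e : (K.subgroupOf R).map R.subtype = K := by rw [subgroupOf_map_subtype, inf_eq_left.2 hKR]
    rw [← e] at hK ⊢
    refine map_mono (hM2 _ ?_ ((map_lt_map_iff_of_injective R.subtype_injective).1 hK))
    exact fun x hx => hTK hx

/-- **LEMMA T1 inside a group.** -/
theorem lemT_sub [Finite G] {M H H₁ T : Subgroup G} (hM : ∀ m ∈ M, m * m = 1) (hHM : H ≤ normalizer (M : Set G))
    (hTH : T ≤ H) (hT : IsPGroup 2 T) (hTi : ¬ 2 ∣ T.relIndex H) (hH₁ : H₁ ≤ H) (hn : H ≤ normalizer (H₁ : Set G))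
    (hsup : H ≤ H₁ ⊔ T)
    (hpar : ∀ P : Subgroup G, P ≤ H → IsMinPar T P →
      ¬ P ≤ centralizer ((M ⊓ centralizer (T : Set G) : Subgroup G) : Set G) →
      P ≤ normalizer ((T ⊓ H₁ : Subgroup G) : Set G)) :
    T ⊓ H₁ ≤ centralizer ((NoFF.Basic.V (M ⊓ centralizer (T : Set G)) H : Subgroup G) : Set G) := by
  let act : MulDistribMulAction H M :=
    { smul := fun h m => ⟨(h : G) * m * (h : G)⁻¹, conj_mem_of_le hHM h.2 m.2⟩
      one_smul := fun m => Subtype.ext (by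
        change (1 : G) * m * (1 : G)⁻¹ = m
        group)
      mul_smul := fun a b m => Subtype.ext (by
        change ((a : G) * b) * m * ((a : G) * b)⁻¹ = a * (b * m * (b : G)⁻¹) * (a : G)⁻¹
        group)
      smul_one := fun a => Subtype.ext (by
        change (a : G) * 1 * (a : G)⁻¹ = 1
        group)
      smul_mul := fun a m n => Subtype.ext (by
        change (a : G) * (m * n) * (a : G)⁻¹ = a * m * (a : G)⁻¹ * (a * n * (a : G)⁻¹)
        group) }
  have hact : ∀ (h : H) (m : M), ((h • m : M) : G) = h * m * (h : G)⁻¹ := fun _ _ => rfl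
  have hT' : (T.subgroupOf H).map H.subtype = T := by rw [subgroupOf_map_subtype, inf_eq_left.2 hTH]
  have key := lemT (H := H) (M := M) (fun m => Subtype.ext (hM m m.2)) (T := T.subgroupOf H) (H₁ := H₁.subgroupOf H)
    ((Subgroup.normal_subgroupOf_iff_le_normalizer hH₁).2 hn)
    (hT.comap_of_injective H.subtype H.subtype_injective) hTi
    (by
      rw [← Subgroup.subgroupOf_sup hH₁ hTH, Subgroup.subgroupOf_eq_top]
      exact hsup)
    (by
      rintro P hP ⟨z, hz, p, hp, hpz⟩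
      have h1 := hpar (P.map H.subtype) (map_subtype_le P) (minPar_map_subtype hTH hP) (fun hc => ?_)
      · refine le_normalizer_of fun a ha b hb => ?_
        have h2 := conj_mem_of_le h1 (mem_map_of_mem H.subtype ha)
          (show (b : G) ∈ T ⊓ H₁ from ⟨mem_subgroupOf.1 hb.1, mem_subgroupOf.1 hb.2⟩)
        exact ⟨mem_subgroupOf.2 h2.1, mem_subgroupOf.2 h2.2⟩
      · refine hpz (Subtype.ext ?_)
        rw [hact]
        have h2 : (z : G) ∈ M ⊓ centralizer (T : Set G) := by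
          refine ⟨z.2, mem_centralizer_iff.2 fun t ht => ?_⟩
          have h3 := congrArg Subtype.val (hz ⟨t, hTH ht⟩ (mem_subgroupOf.2 ht))
          rw [hact] at h3
          exact mul_inv_eq_iff_eq_mul.1 h3
        have h4 := mem_centralizer_iff.1 (hc (mem_map_of_mem H.subtype hp)) _ h2
        rw [mul_inv_eq_iff_eq_mul]
        exact h4.symm)
  intro t ht
  have hV : NoFF.Basic.V (M ⊓ centralizer (T : Set G)) H ≤ centralizer ({t} : Set G) := by
    refine iSup_le fun h => ?_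
    intro y hy
    rw [NoFF.Basic.mem_conj] at hy
    have hy2 : ∀ s ∈ T.subgroupOf H, s • (⟨_, hy.1⟩ : M) = ⟨_, hy.1⟩ := by
      intro s hs
      refine Subtype.ext ?_
      rw [hact, mul_inv_eq_iff_eq_mul]
      exact mem_centralizer_iff.1 hy.2 _ (mem_subgroupOf.1 hs)
    have h5 := congrArg Subtype.val (key ⟨_, hy.1⟩ hy2 h ⟨t, hTH ht.1⟩ (mem_subgroupOf.2 ht.1) (mem_subgroupOf.2 ht.2))
    rw [hact, hact] at h5
    have e : (h : G) * ((h : G)⁻¹ * y * h) * (h : G)⁻¹ = y := by group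
    dsimp only at h5
    rw [e, mul_inv_eq_iff_eq_mul] at h5
    rw [mem_centralizer_singleton_iff]
    exact h5.symm
  rw [mem_centralizer_iff]
  intro y hy
  exact mem_centralizer_singleton_iff.1 (hV hy)

end Sub

end Cfsg.Agent.Omega.NOThreeL.RZ.TwoC.LemT

end

-- merged: Cfsg.Agent.Mrg.Omega.KL.StarR.Alt
section

section


/-!
# The nonsplit case of [R-z], side 1, `H = C_H(X) T` (helper878, bb #24731 (N2), helper162 LEMMA T1, #25374 [N])

`h : LB H M T A`; `X ≤ M` is `T`-invariant with `H = C_H(X) T`, `A` centralises `X`, `C_T(X)` centralises `Rm ≤ Y`,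
some `T`-fixed vector of `Rm` is moved by `H`.  Every `T`-minimal `P` centralises `C_M(T)`, or `C_{Rm}(T)`, or lies in `Q`
(and `A ≤ O₂(P)`), `Q` normalises `Rm`, `J`, and `Bad`: an element `d` of odd order of `Q` with `[[Y, d], [J, d]] = 1`
centralises `Y`.

* `odd_of` : `O(H') = 1` for the irreducible section;
* **`AltIn.false_of`** : this is impossible (`MLK`, `Ext`).
-/

set_option autoImplicit false

namespace Cfsg.Agent.Omega.KL.StarR.Alt

open Subgroup Cfsg Cfsg.Agent.ZN Cfsg.Agent.ClassTwoFusion.Quad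
open Cfsg.Agent.Omega.ML.MinFrame hiding comm_of_sq
open Cfsg.Agent.Omega.ML.Final Cfsg.Agent.Omega.NO3S.EMany.Low
open Cfsg.Agent.Omega.KL.Star.Core Cfsg.Agent.Omega.KL.Star.Mix Cfsg.Agent.Omega.KL.StarQ
open Cfsg.Agent.MinSimple.VModule (o2_isPGroup o2_le le_o2 le_normalizer_o2 o2_le_of_sylow oddGen oddGen_le oddGen_def
  mem_oddGen)
open Cfsg.Agent.MinSimple.MinParabolic (IsMinPar le_of_forall)

universe u v

/-- **The input** (over `LB H M T A`). -/
structure AltIn (H : Type u) [Group H] (M : Type v) [Group M] [MulDistribMulAction H M] (T A J Q : Subgroup H)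
    (X Rm Y : Subgroup M) : Prop where
  TX : ∀ t ∈ T, ∀ w ∈ X, t • w ∈ X
  sup : fxr H X ⊔ T = ⊤
  alt : ∀ t ∈ T, (∀ w ∈ X, t • w = w) → ∀ w ∈ Rm, t • w = w
  AX : ∀ a ∈ A, ∀ w ∈ X, a • w = w
  RY : Rm ≤ Y
  NQ : normalizer (T : Set H) ≤ Q
  QR : ∀ q ∈ Q, ∀ w ∈ Rm, q • w ∈ Rm
  QJ : Q ≤ normalizer (J : Set H)
  JT : J ≤ T
  /-- a `T`-minimal `P` centralises `C_M(T)`, or `C_{Rm}(T)`, or is in `Q` -/
  par : ∀ P : Subgroup H, IsMinPar T P → (∀ m : M, (∀ t ∈ T, t • m = m) → ∀ p ∈ P, p • m = m) ∨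
    (∀ m ∈ Rm, (∀ t ∈ T, t • m = m) → ∀ p ∈ P, p • m = m) ∨ (A ≤ o2 P ∧ P ≤ Q)
  bad : ∀ d ∈ Q, Odd (orderOf d) → (∀ j ∈ J, ∀ w ∈ Y, (j * d * j⁻¹ * d⁻¹) • ((d • w) * w⁻¹) = (d • w) * w⁻¹) →
    ∀ w ∈ Y, d • w = w
  mv : ∃ z ∈ Rm, (∀ t ∈ T, t • z = z) ∧ ¬ ∀ g : H, g • z = z

section

variable {H : Type u} [Group H] [Finite H] {M : Type v} [Group M] [Finite M] [MulDistribMulAction H M]
  {T A J Q : Subgroup H} {X Rm Y : Subgroup M}

/-- **`O(H') = 1`** -/
theorem odd_of (h : LB H M T A) (hM : MLK.{u, v}) (i : AltIn H M T A J Q X Rm Y)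
    {H' : Type u} [Group H'] [Finite H'] {N : Type v} [Group N] [Finite N] [MulDistribMulAction H' N]
    {π : H →* H'} {f : ↥(cmm M A) →* N} {B : Subgroup H'} (o : Out H M T A H' N π f B)
    (nmax : ¬ ∃ L : Subgroup H', L ≠ ⊤ ∧ ∀ R : Subgroup H', T.map π ≤ R → R ≠ ⊤ → R ≤ L) :
    ∀ K : Subgroup H', K.Normal → Odd (Nat.card K) → K = ⊥ := by
  intro K hK hKo
  obtain ⟨z, hzR, tz, mz⟩ := i.mv
  obtain ⟨z1, hz1, hzs⟩ := h.shift tz
  have tz1 : ∀ t ∈ T, t • z1 = z1 := fun t ht => (hzs t).2 (tz t ht)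
  have mz1 : ¬ ∀ g : H, g • z1 = z1 := fun hc => mz fun g => (hzs g).1 (hc g)
  have him : ∀ {m : M} (hm : m ∈ cmm M A) {g : H}, g • m = m → π g • f ⟨m, hm⟩ = f ⟨m, hm⟩ := by
    intro m hm g hg
    rw [← o.eqv g ⟨m, hm⟩]
    exact congrArg f (Subtype.ext hg)
  have nz1 : f ⟨z1, hz1⟩ ≠ 1 := fun h1 => mz1 fun g => h.fix_of_cvKm tz1 ((o.ker _).1 h1) g
  -- the kernel of `π` centralises `U¹`
  have hkz' : ∀ k ∈ π.ker ⊔ T, k • z1 = z1 := by
    refine h.fix_of_mod tz1 le_sup_right (I := cv M (Km A : Set H))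
      (fun w hw tw g _ => h.fix_of_cvKm tw hw g) fun k hk => ?_
    have h1 : π k • f ⟨z1, hz1⟩ = f ⟨z1, hz1⟩ := by
      obtain ⟨k1, hk1, s, hs', rfl⟩ := mem_sup_of_normal_left.1 hk
      rw [map_mul, (MonoidHom.mem_ker).1 hk1, one_mul]
      exact him hz1 (tz1 s hs')
    rw [← o.eqv k ⟨z1, hz1⟩, ← mul_inv_eq_one, ← map_inv, ← map_mul, o.ker] at h1
    exact h1
  have hkU : ∀ k ∈ π.ker, ∀ w ∈ cmm M A, k • w = w := by
    intro k hk w hw
    have h1 : k ∈ fxr H (orb (⊤ : Subgroup H) z1) := by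
      rw [mem_fxr_orb]
      intro s _
      have h2 := hkz' (s⁻¹ * k * s) (mem_sup_left (by
        have := (inferInstance : (π.ker).Normal).conj_mem k hk s⁻¹
        rwa [inv_inv] at this))
      rwa [mul_smul, mul_smul, inv_smul_eq_iff] at h2
    exact h1 w (h.cmm_le hM tz1 mz1 hw)
  -- `K ≤ π(Q)`
  have hKX : K ≤ Q.map π := by
    have hle : K ⊔ T.map π ≤ Q.map π := by
      refine le_of_forall le_sup_right ?_ ?_
      · rintro ν ⟨-, hν⟩
        obtain ⟨_, ⟨t, ht, rfl⟩, n, hn, rfl⟩ := KL.GenTool.exists_normalizer_map π o.πs h.two h.syl hν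
        exact mul_mem ⟨t, i.NQ (le_normalizer ht), rfl⟩ ⟨n, i.NQ hn, rfl⟩
      · intro P' hP' hPK
        obtain ⟨P, hP, rfl⟩ := KL.GenTool.exists_minPar_map π o.πs hP'
        obtain ⟨hn1, hn2⟩ := inf_normal o.lb nmax hK hKo hP'.le hPK
        have hno : (∀ p ∈ P, p • z = z) → False := by
          intro hPz
          have h6 := bot_of_fix o.faith o.irr hn1 nz1 fun n hn => by
            obtain ⟨q, hq, rfl⟩ := hn.1
            exact him hz1 ((hzs q).2 (hPz q hq))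
          rw [h6, bot_sup_eq] at hn2
          exact hP'.ne hn2
        rcases i.par P hP with h1 | h1 | h1
        · exact (hno (h1 z tz)).elim
        · exact (hno (h1 z hzR tz)).elim
        · exact map_mono h1.2
    exact le_sup_left.trans hle
  refine bot_of_fix o.faith o.irr hK nz1 fun κ hκ => ?_
  obtain ⟨g, hg, rfl⟩ := hKX hκ
  -- the odd part of `g`
  obtain ⟨a, m, hm, ha⟩ := Nat.exists_eq_pow_mul_and_not_dvd (orderOf_pos g).ne' 2 (by norm_num)
  have hm' : Odd m := Nat.not_even_iff_odd.1 fun h => hm h.two_dvd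
  have hgo : orderOf (g ^ 2 ^ a) = m := by
    rw [orderOf_pow_of_dvd (by positivity) (ha ▸ Dvd.intro _ rfl), ha, Nat.mul_div_cancel_left _ (by positivity)]
  have hgo' : Odd (orderOf (g ^ 2 ^ a)) := hgo ▸ hm'
  have hgK : π (g ^ 2 ^ a) ∈ K := by
    rw [map_pow]
    exact K.pow_mem hκ _
  have hgQ : g ^ 2 ^ a ∈ Q := Q.pow_mem hg _
  have hgA : g ^ 2 ^ a ∈ Km A := mem_of_odd h.two h.gen hgo'
  have hfix : ∀ w ∈ Y, g ^ 2 ^ a • w = w := by
    refine i.bad _ hgQ hgo' fun j hj w hw => ?_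
    refine hkU _ ?_ _ (mem_cmm hgA w)
    rw [MonoidHom.mem_ker]
    refine eq_one_of_odd hKo (Q := J.map π) ((h.two.to_le i.JT).map π) ?_ ?_
    · rw [map_mul, map_mul, map_mul, map_inv, map_inv]
      exact K.mul_mem (hK.conj_mem _ hgK _) (K.inv_mem hgK)
    · refine ⟨j * (g ^ 2 ^ a) * j⁻¹ * (g ^ 2 ^ a)⁻¹, ?_, rfl⟩
      have h1 := (mem_normalizer_iff.1 (i.QJ hgQ) j⁻¹).1 (J.inv_mem hj)
      have e : j * (g ^ 2 ^ a) * j⁻¹ * (g ^ 2 ^ a)⁻¹ = j * ((g ^ 2 ^ a) * j⁻¹ * (g ^ 2 ^ a)⁻¹) := by group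
      rw [SetLike.mem_coe, e]
      exact J.mul_mem hj h1
  have h1 : π g ^ 2 ^ a • f ⟨z1, hz1⟩ = f ⟨z1, hz1⟩ := by
    rw [← map_pow]
    exact him hz1 ((hzs _).2 (hfix z (i.RY hzR)))
  have h2 : (2 ^ a).Coprime (orderOf (π g)) := by
    have h3 : orderOf (π g) ∣ Nat.card K := by
      have := orderOf_dvd_natCard (⟨π g, hκ⟩ : K)
      rwa [orderOf_mk] at this
    exact Nat.Coprime.pow_left a (Nat.coprime_two_left.mpr (hKo.of_dvd_nat h3))
  obtain ⟨j, hj⟩ := exists_pow_eq_self_of_coprime h2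
  have h3 : (π g ^ 2 ^ a) ^ j ∈ MulAction.stabilizer H' (f ⟨z1, hz1⟩) := pow_mem h1 j
  rw [hj] at h3
  exact h3

/-- **The case `H = C_H(X) T` is impossible.** -/
theorem AltIn.false_of (h : LB H M T A) (hM : MLK.{u, v}) (hE : ML.Ex.Two.Ext.{u, v})
    (i : AltIn H M T A J Q X Rm Y) : False := by
  obtain ⟨z, hzR, tz, mz⟩ := i.mv
  -- `H` is not `T`-minimal
  have nm : ¬ IsMinPar T (⊤ : Subgroup H) := by
    intro hP
    rcases i.par ⊤ hP with h1 | h1 | h1
    · exact mz fun g => h1 z tz g (mem_top g)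
    · exact mz fun g => h1 z hzR tz g (mem_top g)
    · exact h.nb h1.1
  -- no `P` moves one and fixes `z`
  have hex : ∀ P : Subgroup H, T ≤ P → ∀ m : M, (∀ t ∈ T, t • m = m) → (∃ p ∈ P, p • m ≠ m) →
      (∀ p ∈ P, p • z = z) → False := by
    intro P hTP m tm hmv hPz
    obtain ⟨H', i1, i2, N, i3, i4, i5, π, f, A', x', y', o, s⟩ := exists_sysV h hM tm tz mz ⟨P, hTP, hmv, hPz⟩ nm
    exact hE H' N (T.map π) A' x' y' (s.sysT (odd_of h hM i o s.nmax))
  -- `X` is `H`-invariant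
  have hXi : ∀ g : H, ∀ w ∈ X, g • w ∈ X := by
    have h1 : (⊤ : Subgroup H) ≤ { carrier := {g : H | ∀ w : M, g • w ∈ X ↔ w ∈ X}
                                   one_mem' := fun w => by rw [one_smul]
                                   mul_mem' := fun {a b} ha hb w => by rw [mul_smul, ha, hb]
                                   inv_mem' := fun {a} ha w => by rw [← ha, smul_inv_smul] } := by
      rw [← i.sup]
      refine sup_le (fun g hg w => ?_) (fun t ht w => ?_)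
      · refine ⟨fun h2 => ?_, fun h2 => by rw [hg w h2]; exact h2⟩
        have h3 := (fxr H X).inv_mem hg _ h2
        rw [inv_smul_smul] at h3
        rw [h3]
        exact h2
      · refine ⟨fun h2 => ?_, i.TX t ht w⟩
        have h3 := i.TX t⁻¹ (T.inv_mem ht) _ h2
        rwa [inv_smul_smul] at h3
    exact fun g w hw => (h1 (mem_top g) w).2 hw
  have hn : (fxr H X).Normal := fxr_normal hXi
  -- the hypothesis of LEMMA T1
  have hpar : ∀ P : Subgroup H, IsMinPar T P → (∃ z : M, (∀ t ∈ T, t • z = z) ∧ ∃ p ∈ P, p • z ≠ z) →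
      P ≤ normalizer ((T ⊓ fxr H X : Subgroup H) : Set H) := by
    rintro P hP ⟨m, tm, hmv⟩
    have hPz : ¬ ∀ p ∈ P, p • z = z := fun h1 => hex P hP.le m tm hmv h1
    have hPQ : A ≤ o2 P ∧ P ≤ Q := by
      rcases i.par P hP with h1 | h1 | h1
      · exact (hPz (h1 z tz)).elim
      · exact (hPz (h1 z hzR tz)).elim
      · exact h1
    have hsylP : ¬ 2 ∣ T.relIndex P := fun h1 => h.syl (h1.trans (relIndex_dvd_index_of_le hP.le))
    -- `C_P(Rm)`
    have hcn : P ≤ normalizer ((P ⊓ fxr H Rm : Subgroup H) : Set H) := by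
      have key : ∀ p ∈ P, ∀ g ∈ P ⊓ fxr H Rm, p * g * p⁻¹ ∈ P ⊓ fxr H Rm := fun p hp g hg =>
        ⟨P.mul_mem (P.mul_mem hp hg.1) (P.inv_mem hp),
          conj_mem_fxr (R := P) (fun g hg m hm => i.QR g (hPQ.2 hg) m hm) hp hg.2⟩
      intro p hp
      rw [mem_normalizer_iff]
      intro g
      refine ⟨fun hg => key p hp g hg, fun hg => ?_⟩
      have h5 := key p⁻¹ (P.inv_mem hp) _ hg
      have e : p⁻¹ * (p * g * p⁻¹) * p⁻¹⁻¹ = g := by group
      rwa [e] at h5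
    rcases hP.sup_eq_or_inf_le h.two hsylP (N := P ⊓ fxr H Rm) inf_le_left hcn with h1 | h1
    · refine (hPz fun p hp => ?_).elim
      rw [← h1] at hp
      have h2 : (P ⊓ fxr H Rm) ⊔ T ≤ MulAction.stabilizer H z :=
        sup_le (fun g hg => hg.2 z hzR) fun t ht => tz t ht
      exact h2 hp
    · have h2 : T ⊓ fxr H X ≤ o2 P := by
        refine le_trans (le_inf inf_le_left (le_inf (inf_le_left.trans hP.le) ?_)) h1
        exact fun t ht => i.alt t ht.1 ht.2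
      have h3 : o2 P ≤ T := o2_le_of_sylow h.two hsylP
      have h4 : T ⊓ fxr H X = o2 P ⊓ fxr H X :=
        le_antisymm (le_inf h2 inf_le_right) (inf_le_inf_right _ h3)
      rw [h4]
      intro p hp
      have h5 := mem_normalizer_iff.1 (le_normalizer_o2 P hp)
      rw [mem_normalizer_iff]
      intro g
      constructor
      · rintro ⟨h6, h7⟩
        exact ⟨(h5 g).1 h6, hn.conj_mem g h7 p⟩
      · rintro ⟨h6, h7⟩
        refine ⟨(h5 g).2 h6, ?_⟩
        have h8 := hn.conj_mem _ h7 p⁻¹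
        have e : p⁻¹ * (p * g * p⁻¹) * p⁻¹⁻¹ = g := by group
        rwa [e] at h8
  have hT := NOThreeL.RZ.TwoC.LemT.lemT (M := M) h.sq hn h.two h.syl i.sup hpar
  -- `A` centralises `⟨z^H⟩`
  apply h.nb
  refine le_trans (le_inf ?_ le_rfl) (h.fxr_inf_le tz mz)
  intro a ha
  rw [mem_fxr_orb]
  exact fun g _ => hT z tz g a (h.BT ha) (i.AX a ha)

end

end Cfsg.Agent.Omega.KL.StarR.Alt

end

section


/-!
# The nonsplit case of [R-z], side 1 (helper878, bb #24731, #25243 (6), #25374 [N])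

`T` a Sylow 2-subgroup of `H`, `Z ≤ Rm` is fixed by `T`, `X ∩ Rm = 1`, `X, Rm ≤ Y`, `C_T(X)` centralises `Rm`, every
`T`-minimal `P` centralises `C_M(T)`, or `C_{Rm}(T)`, or `P ≤ Q` and `A, J ≤ O₂(P)`; `Q` normalises `X`, `Rm`, `J`; `Bad`
for `Y`; `A` is an exact atom, `A ≰ O₂(H)`, `A ≤ O₂(C_H(Z))`, `A ≤ C_H(X)`: `InpN T A J Q Z X Rm Y`.

* **`InpN.false_of`** : this is impossible (`MLK`, `RedP`, `Ext`): for the minimal overgroup `L` of `T` with `A ≰ O₂(L)`
  either `L = C_L(X) T` (`AltIn.false_of`) or KL* with the object `X` (`exists_sysN`).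
-/

set_option autoImplicit false

namespace Cfsg.Agent.Omega.KL.StarR.Alt

open Subgroup Cfsg Cfsg.Agent.ZN Cfsg.Agent.ClassTwoFusion.Quad
open Cfsg.Agent.Omega.ML.MinFrame hiding comm_of_sq
open Cfsg.Agent.Omega.ML.Final Cfsg.Agent.Omega.NO3S.EMany.Low
open Cfsg.Agent.Omega.KL.Star.Core
open Cfsg.Agent.Omega.KL.StarQ (exists_min)
open Cfsg.Agent.Omega.NO3b.EndX (RedP)
open Cfsg.Agent.MinSimple.VModule (o2_isPGroup o2_le le_o2 le_normalizer_o2 o2_le_of_sylow oddGen oddGen_le oddGen_def)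
open Cfsg.Agent.MinSimple.MinParabolic (IsMinPar le_of_forall)

universe u v

/-- **The input.** -/
structure InpN {H : Type u} [Group H] {M : Type v} [Group M] [MulDistribMulAction H M] (T A J Q : Subgroup H)
    (Z X Rm Y : Subgroup M) : Prop where
  sq : ∀ m : M, m * m = 1
  two : IsPGroup 2 T
  syl : ¬ 2 ∣ T.index
  tZ : ∀ z ∈ Z, ∀ t ∈ T, t • z = z
  NZ : ∀ g ∈ normalizer (T : Set H), ∀ z ∈ Z, g • z ∈ Z
  ZR : Z ≤ Rm
  NQ : normalizer (T : Set H) ≤ Q
  QX : ∀ q ∈ Q, ∀ w ∈ X, q • w ∈ X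
  QR : ∀ q ∈ Q, ∀ w ∈ Rm, q • w ∈ Rm
  QJ : Q ≤ normalizer (J : Set H)
  JT : J ≤ T
  XR : X ⊓ Rm = ⊥
  XY : X ≤ Y
  RY : Rm ≤ Y
  alt : ∀ t ∈ T, (∀ w ∈ X, t • w = w) → ∀ w ∈ Rm, t • w = w
  /-- a `T`-minimal `P` centralises `C_M(T)`, or `C_{Rm}(T)`, or lies in `Q` and `A, J ≤ O₂(P)` -/
  par : ∀ P : Subgroup H, IsMinPar T P → (∀ m : M, (∀ t ∈ T, t • m = m) → ∀ p ∈ P, p • m = m) ∨
    (∀ m ∈ Rm, (∀ t ∈ T, t • m = m) → ∀ p ∈ P, p • m = m) ∨ (A ≤ o2 P ∧ J ≤ o2 P ∧ P ≤ Q)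
  bad : ∀ d ∈ Q, Odd (orderOf d) → (∀ j ∈ J, ∀ w ∈ Y, (j * d * j⁻¹ * d⁻¹) • ((d • w) * w⁻¹) = (d • w) * w⁻¹) →
    ∀ w ∈ Y, d • w = w
  el : ∀ a ∈ A, a * a = 1
  exact : (cv M (A : Set H)).index = Nat.card A
  atom : ∀ C : Subgroup H, C ≤ A → C ≠ ⊥ → C ≠ A → Nat.card C < (cv M (C : Set H)).index
  nA : ¬ A ≤ o2 (⊤ : Subgroup H)
  AZ : A ≤ o2 (fxr H Z)
  AX : ∀ a ∈ A, ∀ w ∈ X, a • w = w
  KH : IsKGroup H

namespace InpN

variable {H : Type u} [Group H] [Finite H] {M : Type v} [Group M] [Finite M] [MulDistribMulAction H M]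
  {T A J Q : Subgroup H} {Z X Rm Y : Subgroup M}

omit [Finite M] in
theorem AT (i : InpN T A J Q Z X Rm Y) : A ≤ T :=
  i.AZ.trans (o2_le_of_sylow i.two fun h2 => i.syl (h2.trans (relIndex_dvd_index_of_le fun t ht z hz => i.tZ z hz t ht)))

/-- **The nonsplit case, side 1.** -/
theorem false_of (i : InpN T A J Q Z X Rm Y) (hM : MLK.{u, v}) (hR : RedP.{u, v}) (hE : ML.Ex.Two.Ext.{u, v}) :
    False := by
  obtain ⟨L, hTL, hAL, hlb, hNN⟩ := exists_min i.sq i.two i.syl i.AT i.el i.exact i.atom i.nA i.KH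
  have hAT := i.AT
  have hAL' : A ≤ L := hAT.trans hTL
  -- a `T`-minimal subgroup of `L` which moves `Z`
  obtain ⟨P, hPm, hPZ⟩ : ∃ P : Subgroup L, IsMinPar (T.subgroupOf L) P ∧
      ¬ ∀ z ∈ Z, ∀ p ∈ P, p • z = z := by
    by_contra hc
    push Not at hc
    apply hAL
    -- `C_L(Z)` is normal in `L`
    let F : Subgroup H := fxr H Z ⊓ L
    have hTF : T ≤ F := le_inf (fun t ht z hz => i.tZ z hz t ht) hTL
    have h1 : (⊤ : Subgroup L) ≤ (normalizer (F : Set H)).subgroupOf L := by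
      refine le_of_forall (S := T.subgroupOf L) le_top (fun g hg => ?_) fun P hP _ p hp => ?_
      · rw [mem_subgroupOf]
        have hg1 := hNN g hg.2
        have hconj : ∀ k : H, k ∈ normalizer (T : Set H) → k ∈ L → ∀ w ∈ F, k * w * k⁻¹ ∈ F := by
          intro k hk hkL w hw
          refine ⟨fun z hz => ?_, L.mul_mem (L.mul_mem hkL hw.2) (L.inv_mem hkL)⟩
          have h2 := hw.1 _ (i.NZ k⁻¹ (inv_mem hk) z hz)
          rw [mul_smul, mul_smul, h2, smul_inv_smul]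
        rw [mem_normalizer_iff]
        intro w
        refine ⟨hconj g hg1 g.2 w, fun hw => ?_⟩
        have h2 := hconj (g : H)⁻¹ (inv_mem hg1) (L.inv_mem g.2) _ hw
        have e : (g : H)⁻¹ * (g * w * (g : H)⁻¹) * (g : H)⁻¹⁻¹ = w := by group
        rwa [e] at h2
      · rw [mem_subgroupOf]
        exact le_normalizer (show (p : H) ∈ F from ⟨fun z hz => hc P hP z hz p hp, p.2⟩)
    have h2 : L ≤ normalizer (F : Set H) := fun g hg => h1 (mem_top (⟨g, hg⟩ : L))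
    exact (le_inf i.AZ (hAT.trans hTF)).trans
      ((InpG.o2_le_o2_of_le inf_le_left).trans (o2_le_o2 inf_le_right h2))
  have hPQ : P ≤ Q.subgroupOf L := by
    rcases i.par _ (KL.GenTool.minPar_map_subtype hTL hPm) with h1 | h1 | ⟨-, -, h1⟩
    · exact (hPZ fun z hz p hp => h1 z (i.tZ z hz) _ ⟨p, hp, rfl⟩).elim
    · exact (hPZ fun z hz p hp => h1 z (i.ZR hz) (i.tZ z hz) _ ⟨p, hp, rfl⟩).elim
    · exact fun p hp => h1 ⟨p, hp, rfl⟩
  push Not at hPZ
  obtain ⟨x, hxZ, p, hp, hpx⟩ := hPZ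
  have htx : ∀ t ∈ T.subgroupOf L, t • x = x := fun t ht => i.tZ x hxZ _ ht
  have hQJ : Q.subgroupOf L ≤ normalizer ((J.subgroupOf L : Subgroup L) : Set L) := by
    intro q hq
    have h1 := i.QJ (show (q : H) ∈ Q from hq)
    rw [mem_normalizer_iff] at h1 ⊢
    exact fun j => h1 j
  by_cases hsup : fxr L X ⊔ T.subgroupOf L = ⊤
  · -- (N2)
    refine AltIn.false_of (J := J.subgroupOf L) (Q := Q.subgroupOf L) (X := X) (Rm := Rm) (Y := Y) hlb hM hE ?_
    exact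
      { TX := fun t ht w hw => i.QX _ (i.NQ (le_normalizer ht)) w hw
        sup := hsup
        alt := fun t ht hw => i.alt _ ht hw
        AX := fun a ha w hw => i.AX _ ha w hw
        RY := i.RY
        NQ := fun g hg => i.NQ (hNN g hg)
        QR := fun q hq w hw => i.QR _ hq w hw
        QJ := hQJ
        JT := fun j hj => i.JT hj
        par := by
          intro P' hP'
          rcases i.par _ (KL.GenTool.minPar_map_subtype hTL hP') with h1 | h1 | ⟨h1, -, h3⟩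
          · exact Or.inl fun m hm q hq => h1 m (fun t ht => hm ⟨t, hTL ht⟩ ht) _ ⟨q, hq, rfl⟩
          · exact Or.inr (Or.inl fun m hmR hm q hq => h1 m hmR (fun t ht => hm ⟨t, hTL ht⟩ ht) _ ⟨q, hq, rfl⟩)
          · exact Or.inr (Or.inr ⟨fun a ha => KL.GenTool.o2_subgroupOf_le P' (h1 ha), fun q hq => h3 ⟨q, hq, rfl⟩⟩)
        bad := by
          intro d hd hdo hcom w hw
          refine i.bad (d : H) hd (by rwa [orderOf_coe]) (fun j hj w hw => ?_) w hw
          exact hcom ⟨j, hTL (i.JT hj)⟩ hj w hw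
        mv := ⟨x, i.ZR hxZ, htx, fun hc => hpx (hc p)⟩ }
  · -- (N1)
    have hY : ¬ ∀ g : L, Odd (orderOf g) → ∀ w ∈ X, g • w = w := by
      intro hc
      apply hsup
      have h1 : oddGen (⊤ : Subgroup L) ⊔ T.subgroupOf L = ⊤ := oddGen_sup le_top fun h2 => hlb.syl (by rwa [relIndex_top_right] at h2)
      rw [eq_top_iff]
      calc (⊤ : Subgroup L) = oddGen (⊤ : Subgroup L) ⊔ T.subgroupOf L := h1.symm
        _ ≤ _ := by
          refine sup_le_sup_right ?_ _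
          rw [oddGen_def, closure_le]
          rintro g ⟨-, hgo⟩ w hw
          exact hc g hgo w hw
    obtain ⟨H', i1, i2, N, i3, i4, i5, T', A', x', Y', h⟩ :=
      exists_sysN hlb hM htx (Y := X) (J := J.subgroupOf L) (Q := Q.subgroupOf L)
        (fun g hg => i.NQ (hNN g hg)) (fun q hq w hw => i.QX _ hq w hw) hQJ (fun j hj => i.JT hj) hY
        (fun R hR => by
          rcases i.par _ (KL.GenTool.minPar_map_subtype hTL hR) with h1 | h1 | ⟨h1, h2, h3⟩
          · exact Or.inl fun q hq => h1 x (i.tZ x hxZ) _ ⟨q, hq, rfl⟩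
          · exact Or.inl fun q hq => h1 x (i.ZR hxZ) (i.tZ x hxZ) _ ⟨q, hq, rfl⟩
          · exact Or.inr (Or.inr ⟨fun a ha => KL.GenTool.o2_subgroupOf_le R (h1 ha),
              fun a ha => KL.GenTool.o2_subgroupOf_le R (h2 ha), fun q hq => h3 ⟨q, hq, rfl⟩⟩))
        ⟨P, hPm.le, ⟨p, hp, hpx⟩, fun g hg hgo y hy hgy => by
          have hgQ : (g : H) ∈ Q := hPQ hg
          have h1 : (g • x) * x⁻¹ ∈ Rm := Rm.mul_mem (i.QR _ hgQ x (i.ZR hxZ)) (Rm.inv_mem (i.ZR hxZ))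
          have h2 : (g • x) * x⁻¹ = y * (g • y)⁻¹ := by
            have hcomm := ML.MinFrame.comm_of_sq i.sq
            rw [smul_mul'] at hgy
            have e1 : g • x = x * y * (g • y)⁻¹ := by rw [← hgy]; group
            rw [e1, hcomm x y]
            calc y * x * (g • y)⁻¹ * x⁻¹ = y * (x * (g • y)⁻¹) * x⁻¹ := by group
              _ = y * ((g • y)⁻¹ * x) * x⁻¹ := by rw [hcomm x]
              _ = _ := by group
          have h3 : (g • x) * x⁻¹ ∈ X ⊓ Rm :=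
            ⟨by rw [h2]; exact X.mul_mem hy (X.inv_mem (i.QX _ hgQ y hy)), h1⟩
          rw [i.XR, mem_bot] at h3
          exact mul_inv_eq_one.1 h3⟩
        (Or.inl (by
          intro d hd hdo hcom w hw
          refine i.bad (d : H) hd (by rwa [orderOf_coe]) (fun j hj w _ => ?_) w (i.XY hw)
          exact hcom ⟨j, hTL (i.JT hj)⟩ hj w))
    obtain ⟨x'', y'', hm⟩ := h.exists_mv hR
    exact hE H' N T' A' x'' y'' (h.toSysB.sysT hm)

end InpN

end Cfsg.Agent.Omega.KL.StarR.Alt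

end

end
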